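import Groth.Agent.Lib.Sumihiro14.Cartier
import Groth.Agent.Lib.OrbitTop19.Closed
import Groth.Agent.Lib.Ample18.Avoid
import Groth.Agent.S12018
import Mathlib.AlgebraicGeometry.Morphisms.Affine
import Mathlib.AlgebraicGeometry.Morphisms.Separated

/-!
# Ample modules on smooth connected algebraic groups
-/

set_option autoImplicit false
set_option linter.style.haveILetI false
set_option backward.isDefEq.respectTransparency false
set_option backward.isDefEq.respectTransparency.types false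

universe u

open CategoryTheory CategoryTheory.Limits MonoidalCategory CartesianMonoidalCategory MonObj AlgebraicGeometry
open TopologicalSpace

noncomputable section

namespace Groth.Agent.GrpAmple15

variable {K : Type u} [Field K] {G : Over (Spec (CommRingCat.of K))} [GrpObj G]

/-- Left translation. -/
def lt (g : 𝟙_ (Over (Spec (CommRingCat.of K))) ⟶ G) : G ⟶ G := (toUnit G ≫ g) * 𝟙 G

/-- Right translation. -/
def rt (g : 𝟙_ (Over (Spec (CommRingCat.of K))) ⟶ G) : G ⟶ G := 𝟙 G * (toUnit G ≫ g)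

theorem comp_lt {T : Over (Spec (CommRingCat.of K))} (f : T ⟶ G) (g : 𝟙_ (Over (Spec (CommRingCat.of K))) ⟶ G) :
    f ≫ lt g = (toUnit T ≫ g) * f := by
  rw [lt, MonObj.comp_mul, Category.comp_id, ← Category.assoc, comp_toUnit]

theorem comp_rt {T : Over (Spec (CommRingCat.of K))} (f : T ⟶ G) (g : 𝟙_ (Over (Spec (CommRingCat.of K))) ⟶ G) :
    f ≫ rt g = f * (toUnit T ≫ g) := by
  rw [rt, MonObj.comp_mul, Category.comp_id, ← Category.assoc, comp_toUnit]

theorem isIso_lt (g : 𝟙_ (Over (Spec (CommRingCat.of K))) ⟶ G) : IsIso (lt g) := by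
  refine ⟨⟨lt g⁻¹, ?_, ?_⟩⟩ <;>
    rw [comp_lt, lt, ← _root_.mul_assoc, ← MonObj.comp_mul] <;>
    simp [MonObj.comp_one]

theorem isIso_rt (g : 𝟙_ (Over (Spec (CommRingCat.of K))) ⟶ G) : IsIso (rt g) := by
  refine ⟨⟨rt g⁻¹, ?_, ?_⟩⟩ <;>
    rw [comp_rt, rt, _root_.mul_assoc, ← MonObj.comp_mul] <;>
    simp [MonObj.comp_one]

theorem isIso_lt_left (g : 𝟙_ (Over (Spec (CommRingCat.of K))) ⟶ G) : IsIso (lt g).left := by
  haveI := isIso_lt g
  exact inferInstanceAs (IsIso ((Over.forget _).map (lt g)))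

theorem isIso_rt_left (g : 𝟙_ (Over (Spec (CommRingCat.of K))) ⟶ G) : IsIso (rt g).left := by
  haveI := isIso_rt g
  exact inferInstanceAs (IsIso ((Over.forget _).map (rt g)))

theorem pt_inv_comp (g p : 𝟙_ (Over (Spec (CommRingCat.of K))) ⟶ G) :
    g ≫ ((𝟙 G)⁻¹ : G ⟶ G) ≫ rt p = g⁻¹ * p := by
  rw [← Category.assoc, GrpObj.comp_inv, Category.comp_id, comp_rt,
    Subsingleton.elim (toUnit (𝟙_ (Over (Spec (CommRingCat.of K))))) (𝟙 _), Category.id_comp]

theorem isIso_inv_left : IsIso ((𝟙 G)⁻¹ : G ⟶ G).left := by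
  have h : ((𝟙 G)⁻¹ : G ⟶ G) ≫ (𝟙 G)⁻¹ = 𝟙 G := by rw [GrpObj.comp_inv, Category.comp_id, inv_inv]
  refine ⟨⟨((𝟙 G)⁻¹ : G ⟶ G).left, ?_, ?_⟩⟩ <;> rw [← Over.comp_left, h] <;> rfl

variable (G) [IsAlgClosed K]

/-- A smooth connected algebraic group over an algebraically closed field has an ample module. -/
theorem exists_isAmple [Smooth G.hom] [IsSeparated G.hom] [QuasiCompact G.hom] [GeometricallyIntegral G.hom] :
    ∃ L : G.left.Modules, CohB1.IsAmple L := by
  haveI : IsIntegral G.left := GeometricallyIntegral.isIntegral_of_subsingleton G.hom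
  haveI : CompactSpace G.left := QuasiCompact.compactSpace_of_compactSpace G.hom
  haveI : JacobsonSpace G.left := LocallyOfFiniteType.jacobsonSpace G.hom
  haveI : G.left.IsSeparated := ⟨by
    rw [show terminal.from G.left = G.hom ≫ terminal.from _ from Subsingleton.elim _ _]; infer_instance⟩
  obtain ⟨x₀⟩ : Nonempty G.left := inferInstance
  obtain ⟨U, hU, hxU, -⟩ := exists_isAffineOpen_mem_and_subset (X := G.left) (x := x₀) (U := ⊤) trivial
  haveI : IsAffineHom U.ι := by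
    haveI : IsAffine (U : Scheme.{u}) := hU
    haveI : IsAffineHom (U.ι ≫ G.hom) := inferInstance
    exact IsAffineHom.of_comp U.ι G.hom
  obtain ⟨N, hN, s, hs⟩ := Sumihiro14.exists_section_compl G.hom U (U.isOpen.dense ⟨x₀, hxU⟩)
  have hsU : Amp.HasSec N 1 U := hs ▸ Amp.hasSec_of_iso (M2.tensorPowOne N).symm s
  let L := (Scheme.Modules.pullback (μ[G]).left).obj N
  have hL : PicF.IsInvertible L := PicLoc.isInvertible_pullback _ hN
  let P : (𝟙_ (Over (Spec (CommRingCat.of K))) ⟶ G) → G.left.Modules :=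
    fun g => (Scheme.Modules.pullback (lift (toUnit G ≫ g) (𝟙 G)).left).obj L
  have hP : ∀ g, PicF.IsInvertible (P g) := fun g => PicLoc.isInvertible_pullback _ hL
  refine ⟨CohB1.tensorMod (P 1) (P 1),
    Amp.isAmple_iff.2 ⟨M2.isInvertible_tensor (hP 1) (hP 1), inferInstance, fun x => ?_⟩⟩
  obtain ⟨y, hy, hyc⟩ := nonempty_inter_closedPoints (Z := closure ({x} : Set G.left))
    ⟨x, subset_closure rfl⟩ isClosed_closure.isLocallyClosed
  obtain ⟨p, hp⟩ := OrbitTop19.exists_point G y hyc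
  haveI := isIso_rt_left p
  haveI := isIso_inv_left (G := G)
  let q : G ⟶ G := ((𝟙 G)⁻¹ : G ⟶ G) ≫ rt p
  haveI : IsIso q.left := by
    show IsIso ((((𝟙 G)⁻¹ : G ⟶ G)).left ≫ (rt p).left)
    infer_instance
  obtain ⟨z, ⟨hz₁, hz₂⟩⟩ : (((rt p).left ⁻¹ᵁ U ⊓ q.left ⁻¹ᵁ U : G.left.Opens) : Set G.left).Nonempty := by
    rw [Opens.coe_inf]
    exact nonempty_preirreducible_inter ((rt p).left ⁻¹ᵁ U).isOpen (q.left ⁻¹ᵁ U).isOpen
      (Set.Nonempty.preimage ⟨x₀, hxU⟩ (rt p).left.homeomorph.surjective)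
      (Set.Nonempty.preimage ⟨x₀, hxU⟩ q.left.homeomorph.surjective)
  obtain ⟨z', ⟨hz'₁, hz'₂⟩, hz'c⟩ := nonempty_inter_closedPoints
    (Z := (((rt p).left ⁻¹ᵁ U ⊓ q.left ⁻¹ᵁ U : G.left.Opens) : Set G.left)) ⟨z, hz₁, hz₂⟩
    (Opens.isOpen _).isLocallyClosed
  obtain ⟨g, hg⟩ := OrbitTop19.exists_point G z' hz'c
  obtain ⟨e⟩ := Groth.Agent.S12018.result K G G L hL g 1 1 g⁻¹ (by simp)
  have hsec : ∀ a : 𝟙_ (Over (Spec (CommRingCat.of K))) ⟶ G,
      Amp.HasSec (P a) 1 ((lt a).left ⁻¹ᵁ U) := by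
    intro a
    have h := (hsU.pullback (μ[G]).left hN).pullback (lift (toUnit G ≫ a) (𝟙 G)).left hL
    have e1 : lt a = lift (toUnit G ≫ a) (𝟙 G) ≫ μ[G] := by rw [lt, Hom.mul_def]
    rw [e1]
    exact h
  have hQ : Amp.HasSec (CohB1.tensorMod (P 1) (P 1)) 1 ((lt g).left ⁻¹ᵁ U ⊓ (lt g⁻¹).left ⁻¹ᵁ U) :=
    ((hsec g).tensor (hP g) (hP g⁻¹) (hsec g⁻¹)).map_iso e
  have hmem : ∀ a : 𝟙_ (Over (Spec (CommRingCat.of K))) ⟶ G,
      (a * p).left (IsLocalRing.closedPoint K) ∈ U → y ∈ (lt a).left ⁻¹ᵁ U := by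
    intro a h
    show (lt a).left y ∈ U
    have e2 : p ≫ lt a = a * p := by
      rw [comp_lt, Subsingleton.elim (toUnit (𝟙_ (Over (Spec (CommRingCat.of K))))) (𝟙 _), Category.id_comp]
    rw [← hp]
    rw [← e2] at h
    exact h
  refine ⟨0, _, hQ, (specializes_iff_mem_closure.2 hy).mem_open (Opens.isOpen _)
    ⟨hmem g ?_, hmem g⁻¹ ?_⟩, ?_⟩
  · have e3 : g ≫ rt p = g * p := by
      rw [comp_rt, Subsingleton.elim (toUnit (𝟙_ (Over (Spec (CommRingCat.of K))))) (𝟙 _), Category.id_comp]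
    rw [← e3]
    show (rt p).left (g.left (IsLocalRing.closedPoint K)) ∈ U
    rw [hg]
    exact hz'₁
  · rw [← pt_inv_comp g p]
    show q.left (g.left (IsLocalRing.closedPoint K)) ∈ U
    rw [hg]
    exact hz'₂
  · haveI := isIso_lt_left g
    haveI := isIso_lt_left g⁻¹
    exact (hU.preimage (lt g).left).inf (hU.preimage (lt g⁻¹).left)

end Groth.Agent.GrpAmple15
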