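import Groth.Agent.Lib.GrpAmple15.Reduced
import Groth.Agent.Lib.FieldExt12.Model
import Groth.Agent.Lib.LimShf14.Pic
import Groth.Agent.Lib.CurveCoh17.EtaleEuler
import Groth.Agent.Lib.RelAmple18.Basic
import Groth.Agent.S9223
import Groth.Agent.S4438
import Groth.Prelude.Def_Red

/-!
# Ample modules on algebraic groups over fields
-/

set_option autoImplicit false
set_option linter.style.haveILetI false
set_option backward.isDefEq.respectTransparency false
set_option backward.isDefEq.respectTransparency.types false

universe u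

open CategoryTheory CategoryTheory.Limits MonoidalCategory CartesianMonoidalCategory MonObj AlgebraicGeometry

noncomputable section

namespace Groth.Agent.GrpAmple15

/-- An algebraic group over a field has an ample module. -/
theorem exists_isAmple_field {k : Type u} [Field k] (G : Over (Spec (CommRingCat.of k))) [GrpObj G]
    [LocallyOfFiniteType G.hom] [QuasiCompact G.hom] : ∃ L : G.left.Modules, CohB1.IsAmple L := by
  let K := AlgebraicClosure k
  let φ := Spec.map (CommRingCat.ofHom (algebraMap k K))
  let GK := Red.bc φ G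
  haveI : GrpObj GK := Red.grpObj_bc φ G
  haveI : LocallyOfFiniteType GK.hom := inferInstanceAs (LocallyOfFiniteType (pullback.snd G.hom φ))
  haveI : QuasiCompact GK.hom := inferInstanceAs (QuasiCompact (pullback.snd G.hom φ))
  obtain ⟨L, hL⟩ := exists_isAmple_algClosed GK
  haveI : IsSeparated G.hom := AbRigid.isSeparated_of_grpObj G
  haveI : CompactSpace G.left := QuasiCompact.compactSpace_of_compactSpace G.hom
  haveI : QuasiSeparatedSpace G.left := quasiSeparatedSpace_of_quasiSeparated G.hom
  let D := Descend.pbDiagram (FieldExt12.sys k K) (FieldExt12.str k K) G.hom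
  let c := Descend.pbCone (FieldExt12.sys k K) (FieldExt12.str k K) G.hom (FieldExt12.cone k K)
    (FieldExt12.cone_str k K) (IsPullback.of_hasPullback G.hom φ)
  have hc : IsLimit c := Descend.pbIsLimit (FieldExt12.sys k K) (FieldExt12.str k K) G.hom (FieldExt12.cone k K)
    (FieldExt12.cone_str k K) (IsPullback.of_hasPullback G.hom φ) (FieldExt12.isLimitCone k K)
  haveI : ∀ (i j : (FieldExt12.Idx k K)ᵒᵖ) (f : i ⟶ j), IsAffineHom (D.map f) := fun i j f =>
    Descend.pb_isAffineHom_map (FieldExt12.sys k K) (FieldExt12.str k K) G.hom f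
  haveI : ∀ i, CompactSpace (D.obj i) := fun i =>
    Descend.pb_compactSpace (FieldExt12.sys k K) (FieldExt12.str k K) G.hom i
  haveI : ∀ i, QuasiSeparatedSpace (D.obj i) := fun i =>
    Descend.pb_quasiSeparatedSpace (FieldExt12.sys k K) (FieldExt12.str k K) G.hom i
  obtain ⟨i, y, hy⟩ := LimShf14.exists_picSet_rep D c hc ⟨PicF.cl L, L, rfl, hL.1⟩
  obtain ⟨Li, hLi, hLiinv⟩ := y.2
  rw [← hLi] at hy
  obtain ⟨e⟩ : Nonempty ((Scheme.Modules.pullback (c.π.app i)).obj Li ≅ L) := LimShf14.iso_of_cl_eq hy
  have hamp : CohB1.IsAmple ((Scheme.Modules.pullback (c.π.app i)).obj Li) := Amp.isAmple_of_iso e.symm hL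
  obtain ⟨j, ψ, hj⟩ := Groth.Agent.S9223.result D c hc i Li hLiinv hamp
  let A := j.unop.1
  haveI : Algebra.FiniteType k A := (Subalgebra.fg_iff_finiteType A).1 j.unop.2
  haveI : Algebra.IsIntegral k A := Algebra.IsIntegral.of_injective A.val Subtype.val_injective
  haveI : Module.Finite k A := Algebra.IsIntegral.finite
  let v := Spec.map (CommRingCat.ofHom (algebraMap k A))
  haveI : IsFinite v := (IsFinite.SpecMap_iff _).2 (RingHom.finite_algebraMap.2 inferInstance)
  haveI : Flat v := Flat.SpecMap_iff.2 (RingHom.flat_algebraMap_iff.2 inferInstance)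
  haveI : Surjective v := by
    refine ⟨fun z => ?_⟩
    obtain ⟨P⟩ : Nonempty (PrimeSpectrum A) := inferInstance
    exact ⟨P, Subsingleton.elim (α := PrimeSpectrum k) _ _⟩
  let g : D.obj j ⟶ G.left := pullback.fst G.hom v
  haveI : IsFinite g := MorphismProperty.pullback_fst (P := @IsFinite) G.hom v inferInstance
  haveI : Flat g := MorphismProperty.pullback_fst (P := @Flat) G.hom v inferInstance
  haveI : Surjective g := MorphismProperty.pullback_fst (P := @Surjective) G.hom v inferInstance
  haveI : IsLocallyNoetherian G.left := LocallyOfFiniteType.isLocallyNoetherian G.hom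
  haveI : LocallyOfFinitePresentation g := inferInstance
  obtain ⟨M, -, hM⟩ := (Groth.Agent.S4438.result G.hom g (CurveCoh17.isFinLocFree_pushO g)).2
    ⟨_, PicLoc.isInvertible_pullback _ hLiinv, (RA.isRelAmple_iff_isAmple _).2 hj⟩
  exact ⟨M, (RA.isRelAmple_iff_isAmple _).1 hM⟩

end Groth.Agent.GrpAmple15
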