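import Groth.Agent.Lib.GrpAmple15.Connected
import Groth.Agent.Lib.BorelFix21.Stabilizer
import Groth.Agent.Lib.AbRigid.SmoothGI
import Groth.Agent.Lib.AbRigid.Maximal
import Groth.Agent.Lib.HTop25.Basic
import Groth.Agent.Lib.Sumihiro14.Open
import Groth.Agent.S7520
import Groth.Agent.S0353
import Groth.Prelude.Def_Frob
import Mathlib.AlgebraicGeometry.Morphisms.FlatMono

/-!
# Ample modules on algebraic groups over algebraically closed fields
-/

set_option autoImplicit false
set_option linter.style.haveILetI false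
set_option backward.isDefEq.respectTransparency false
set_option backward.isDefEq.respectTransparency.types false

universe u

open CategoryTheory CategoryTheory.Limits MonoidalCategory CartesianMonoidalCategory MonObj AlgebraicGeometry
open TopologicalSpace

noncomputable section

namespace Groth.Agent.GrpAmple15

/-- Iterated absolute Frobenius. -/
def fIter (X : Scheme.{u}) (p : ℕ) [Fact p.Prime] [FrobSch.IsCharP X p] : ℕ → (X ⟶ X)
  | 0 => 𝟙 X
  | n + 1 => FrobSch.frob X p ≫ fIter X p n

theorem fIter_preimage (X : Scheme.{u}) (p : ℕ) [Fact p.Prime] [FrobSch.IsCharP X p] (n : ℕ) (U : X.Opens) :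
    fIter X p n ⁻¹ᵁ U = U := by
  induction n with
  | zero => rfl
  | succ n ih => exact ih

theorem isAffineHom_fIter (X : Scheme.{u}) (p : ℕ) [Fact p.Prime] [FrobSch.IsCharP X p] (n : ℕ) :
    IsAffineHom (fIter X p n) :=
  ⟨fun U hU => by rw [fIter_preimage]; exact hU⟩

theorem fIter_app_eq_zero (X : Scheme.{u}) (p : ℕ) [Fact p.Prime] [FrobSch.IsCharP X p] (n : ℕ) (U : X.Opens)
    (a : Γ(X, U)) (ha : a ^ p ^ n = 0) : (fIter X p n).app U a = 0 := by
  induction n generalizing a with
  | zero =>
    rw [pow_zero, pow_one] at ha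
    rw [ha, map_zero]
  | succ n ih =>
    have h := ih (a ^ p) (by rw [← pow_mul, ← pow_succ']; exact ha)
    rw [map_pow] at h
    exact h

variable {K : Type u} [Field K]

/-- An affine morphism from a scheme onto a closed subscheme with the same points. -/
theorem exists_affineHom_of_charP {G H : Scheme.{u}} (s : G ⟶ Spec (CommRingCat.of K)) [LocallyOfFiniteType s]
    [QuasiCompact s] (r : H ⟶ G) [IsClosedImmersion r] [Surjective r] (p : ℕ) [Fact p.Prime] [CharP K p] :
    ∃ q : G ⟶ H, IsAffineHom q := by
  haveI : FrobSch.IsCharP G p := FrobSch.IsCharP.of_hom s p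
  haveI : IsLocallyNoetherian G := LocallyOfFiniteType.isLocallyNoetherian s
  haveI : CompactSpace G := QuasiCompact.compactSpace_of_compactSpace s
  choose V hV hxV hVle using fun x : G =>
    exists_isAffineOpen_mem_and_subset (X := G) (x := x) (U := ⊤) trivial
  obtain ⟨t, ht⟩ := isCompact_univ.elim_finite_subcover (fun x : G => (V x : Set G)) (fun x => (V x).isOpen)
    (fun x _ => Set.mem_iUnion.2 ⟨x, hxV x⟩)
  have hnil : ∀ x : G, IsNilpotent (nilradical Γ(G, V x)) := fun x => by
    haveI : IsNoetherianRing Γ(G, V x) := IsLocallyNoetherian.component_noetherian ⟨V x, hV x⟩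
    exact IsNoetherianRing.isNilpotent_nilradical _
  choose N hN using hnil
  let n := t.sup N
  haveI := isAffineHom_fIter G p n
  have hle : r.ker ≤ (fIter G p n).ker := by
    refine Scheme.IdealSheafData.le_of_iSup_eq_top (fun i : t => (⟨V i.1, hV i.1⟩ : G.affineOpens))
      (top_le_iff.1 fun x _ => ?_) fun i => ?_
    · obtain ⟨y, hy, hxy⟩ := Set.mem_iUnion₂.1 (ht (Set.mem_univ x))
      exact Opens.mem_iSup.2 ⟨⟨y, hy⟩, hxy⟩
    · rw [Scheme.Hom.ker_apply, Scheme.Hom.ker_apply]
      intro a ha
      rw [RingHom.mem_ker] at ha ⊢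
      have hb : G.basicOpen a = ⊥ := by
        refine le_bot_iff.1 fun z hz => ?_
        obtain ⟨w, rfl⟩ := r.surjective z
        have h : w ∈ r ⁻¹ᵁ G.basicOpen a := hz
        rw [Scheme.preimage_basicOpen, show r.app (V i.1) a = 0 from ha, Scheme.basicOpen_zero] at h
        exact h
      refine fIter_app_eq_zero G p n _ a ?_
      have hnil : IsNilpotent a :=
        (Scheme.isNilpotent_iff_basicOpen_eq_bot_of_isCompact (hV i.1).isCompact a).2 hb
      have hpow : a ^ N i.1 ∈ nilradical Γ(G, V i.1) ^ N i.1 := Ideal.pow_mem_pow (mem_nilradical.2 hnil) _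
      rw [hN i.1, Ideal.zero_eq_bot, Ideal.mem_bot] at hpow
      refine pow_eq_zero_of_le ?_ hpow
      exact le_trans (Finset.le_sup i.2) (n.lt_pow_self (Fact.out : p.Prime).one_lt).le
  refine ⟨IsClosedImmersion.lift r (fIter G p n) hle, ?_⟩
  haveI : IsAffineHom (IsClosedImmersion.lift r (fIter G p n) hle ≫ r) := by
    rw [IsClosedImmersion.lift_fac]; infer_instance
  exact IsAffineHom.of_comp _ r

variable [IsAlgClosed K]

/-- A smooth quasi-compact group scheme has an ample module. -/
theorem exists_isAmple_smooth (H : Over (Spec (CommRingCat.of K))) [GrpObj H] [Smooth H.hom]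
    [QuasiCompact H.hom] : ∃ L : H.left.Modules, CohB1.IsAmple L := by
  classical
  obtain ⟨G₀, _, incl, _, hci, hfl, hrange, hgi, hcpt⟩ := Groth.Agent.S7520.result K H
  haveI := hci; haveI := hfl; haveI := hgi; haveI := hcpt
  haveI : IsSeparated H.hom := AbRigid.isSeparated_of_grpObj H
  haveI : IsLocallyNoetherian H.left := LocallyOfFiniteType.isLocallyNoetherian H.hom
  haveI : LocallyOfFinitePresentation incl.left := inferInstance
  haveI : IsOpenImmersion incl.left := IsOpenImmersion.of_flat_of_mono incl.left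
  haveI : Smooth G₀.hom := by
    rw [← Over.w incl]; infer_instance
  haveI : QuasiCompact G₀.hom := (quasiCompact_iff_compactSpace G₀.hom).2 hcpt
  haveI : IsSeparated G₀.hom := AbRigid.isSeparated_of_grpObj G₀
  haveI : GeometricallyIntegral G₀.hom := by
    haveI := AbRigid.geometricallyReduced_of_smooth G₀.hom
    exact GeometricallyIntegral.of_geometricallyReduced_of_geometricallyIrreducible _
  obtain ⟨L, hL⟩ := exists_isAmple G₀
  haveI : CompactSpace H.left := QuasiCompact.compactSpace_of_compactSpace H.hom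
  haveI : JacobsonSpace H.left := LocallyOfFiniteType.jacobsonSpace H.hom
  let e : H.left := η[H].left (IsLocalRing.closedPoint K)
  let j : (𝟙_ (Over (Spec (CommRingCat.of K))) ⟶ H) → (G₀.left ⟶ H.left) := fun a => incl.left ≫ (lt a).left
  haveI hj : ∀ a, IsOpenImmersion (j a) := fun a => by
    haveI := isIso_lt_left a
    show IsOpenImmersion (incl.left ≫ (lt a).left)
    infer_instance
  have hlt : ∀ a, (lt a).left e = a.left (IsLocalRing.closedPoint K) := fun a => by
    have h : η[H] ≫ lt a = a := by
      rw [comp_lt, Subsingleton.elim (toUnit (𝟙_ (Over (Spec (CommRingCat.of K))))) (𝟙 _), Category.id_comp,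
        MonObj.one_eq_one, _root_.mul_one]
    conv_rhs => rw [← h]
    rfl
  have hrj : ∀ a, Set.range (j a) = connectedComponent (a.left (IsLocalRing.closedPoint K)) := fun a => by
    haveI := isIso_lt_left a
    show Set.range ((lt a).left ∘ incl.left) = _
    rw [Set.range_comp, hrange, ← hlt a]
    exact (lt a).left.homeomorph.isQuotientMap.image_connectedComponent
      (fun y => by
        obtain ⟨z, rfl⟩ := (lt a).left.homeomorph.surjective y
        rw [← Set.image_singleton, Set.preimage_image_eq _ (lt a).left.homeomorph.injective]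
        exact isConnected_singleton) e
  have hcov : (⊤ : H.left.Opens) ≤ ⨆ a, (j a).opensRange := by
    refine Sumihiro14.opens_le_of_closedPoints fun z hz _ => ?_
    obtain ⟨a, ha⟩ := OrbitTop19.exists_point H z hz
    refine Opens.mem_iSup.2 ⟨a, ?_⟩
    show z ∈ Set.range (j a)
    rw [hrj, ha]
    exact mem_connectedComponent
  obtain ⟨t, ht⟩ := isCompact_univ.elim_finite_subcover (fun a => ((j a).opensRange : Set H.left))
    (fun a => (j a).opensRange.isOpen) (fun z _ => by
      obtain ⟨a, ha⟩ := Opens.mem_iSup.1 (hcov (show z ∈ (⊤ : H.left.Opens) from trivial))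
      exact Set.mem_iUnion.2 ⟨a, ha⟩)
  let C := t.image fun a => Set.range (j a)
  have hC : ∀ c : C, ∃ a, a ∈ t ∧ Set.range (j a) = c.1 := fun c => Finset.mem_image.1 c.2
  choose rep hrep hrepC using hC
  let f : (∐ fun _ : C => G₀.left) ⟶ H.left := Sigma.desc fun c => j (rep c)
  haveI : IsOpenImmersion f := isOpenImmersion_sigmaDesc _ _ fun c c' hne => by
    show Disjoint (Set.range (j (rep c))) (Set.range (j (rep c')))
    rw [hrj, hrj]
    refine connectedComponent_disjoint fun h => hne (Subtype.ext ?_)
    rw [← hrepC c, ← hrepC c', hrj, hrj, h]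
  haveI : Surjective f := ⟨fun z => by
    obtain ⟨a, ha, hza⟩ := Set.mem_iUnion₂.1 (ht (Set.mem_univ z))
    have hza' : z ∈ Set.range (j a) := hza
    let c : C := ⟨Set.range (j a), Finset.mem_image_of_mem _ ha⟩
    obtain ⟨w, hw⟩ : z ∈ Set.range (j (rep c)) := (hrepC c).symm.le hza'
    refine ⟨(Sigma.ι (fun _ : C => G₀.left) c) w, ?_⟩
    rw [← Scheme.Hom.comp_apply, Sigma.ι_desc]
    exact hw⟩
  haveI : IsIso f := isIso_of_isOpenImmersion_of_opensRange_eq_top f
    (Opens.ext (Set.range_eq_univ.2 f.surjective))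
  haveI : IsAffineHom (Sigma.desc fun _ : C => 𝟙 G₀.left) := HTop25.isAffineHom_sigmaDesc _
  exact ⟨_, Amp.isAmple_pullback_of_isAffineHom (inv f ≫ Sigma.desc fun _ : C => 𝟙 G₀.left) hL⟩

/-- An algebraic group over an algebraically closed field has an ample module. -/
theorem exists_isAmple_algClosed (G : Over (Spec (CommRingCat.of K))) [GrpObj G] [LocallyOfFiniteType G.hom]
    [QuasiCompact G.hom] : ∃ L : G.left.Modules, CohB1.IsAmple L := by
  obtain ⟨H, _, r, _, hci, hsur, hred, hsm⟩ := BorelFix21.exists_reduced_subgroup G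
  haveI := hci; haveI := hsur; haveI := hred; haveI := hsm
  haveI : QuasiCompact H.hom := by
    rw [← Over.w r]; infer_instance
  obtain ⟨L, hL⟩ := exists_isAmple_smooth H
  obtain ⟨p, hp⟩ := CharP.exists K
  rcases CharP.char_is_prime_or_zero K p with hpp | rfl
  · haveI := Fact.mk hpp
    obtain ⟨q, hq⟩ := exists_affineHom_of_charP G.hom r.left p
    exact ⟨_, Amp.isAmple_pullback_of_isAffineHom q hL⟩
  · haveI : CharZero K := CharP.charP_to_charZero K
    haveI := Groth.Agent.S0353.result K G
    haveI : IsReduced G.left := AbRigid.isReduced_of_smooth_over_field G.hom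
    haveI : IsIso r.left := isIso_of_isClosedImmersion_of_surjective r.left
    exact ⟨_, Amp.isAmple_pullback_of_isAffineHom (inv r.left) hL⟩

end Groth.Agent.GrpAmple15
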